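import Groth.Agent.L22.CurveAmple.Main
import Groth.Agent.L26.Elliptic.RelDim
import Groth.Agent.L06.FibreModel
import Groth.Agent.L08.Cube.DivSection
import Groth.Agent.L19.AmpleAffineLocus
import Groth.Agent.L18.AmpleOps
import Groth.Agent.L18.AmplePull
import Groth.Agent.L02.MaxFibreLocus
import Groth.Agent.S12128
import Groth.Prelude.Def_AnFib

/-!
# Elementary fibrations are affine and surjective
-/

set_option autoImplicit false
set_option linter.style.haveILetI false
set_option backward.isDefEq.respectTransparency false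

universe u

open CategoryTheory CategoryTheory.Limits AlgebraicGeometry TopologicalSpace

noncomputable section

namespace Groth.L22.ElemFib

variable {Xb Y S : Scheme.{u}} (fb : Xb ⟶ S) (i : Y ⟶ Xb)

/-- Geometrically irreducible one-dimensional fibres: connectedness and dimension. -/
theorem fibres [LocallyOfFiniteType fb]
    (hgeo : ∀ (Ω : Type u) [Field Ω] [IsAlgClosed Ω] (σ : Spec (CommRingCat.of Ω) ⟶ S),
      IrreducibleSpace ↥(pullback fb σ) ∧ topologicalKrullDim ↥(pullback fb σ) = 1) (s : S) :
    IrreducibleSpace ↥(fb.fiber s) ∧ topologicalKrullDim ↥(fb.fiber s) = 1 := by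
  let Ω := AlgebraicClosure (S.residueField s)
  let τ : Spec (CommRingCat.of Ω) ⟶ Spec (S.residueField s) :=
    Spec.map (CommRingCat.ofHom (algebraMap (S.residueField s) Ω))
  let σ := τ ≫ S.fromSpecResidueField s
  obtain ⟨hirr, hd⟩ := hgeo Ω σ
  haveI : Surjective τ := ⟨fun p => ⟨IsLocalRing.closedPoint Ω, Subsingleton.elim _ _⟩⟩
  let e := pullbackLeftPullbackSndIso fb (S.fromSpecResidueField s) τ
  let w : pullback fb σ ⟶ fb.fiber s := e.inv ≫ pullback.fst _ _
  haveI : Surjective (pullback.fst (pullback.snd fb (S.fromSpecResidueField s)) τ) :=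
    MorphismProperty.pullback_fst (P := @Surjective) _ _ inferInstance
  haveI : Surjective w := inferInstance
  refine ⟨haveI := hirr; Groth.L20.irreducibleSpace_of_surjective w, ?_⟩
  let pt : Spec (CommRingCat.of Ω) := IsLocalRing.closedPoint Ω
  have h := Groth.L06.FibreModel.topologicalKrullDim_fiber_eq fb σ (pullback.snd fb σ) (pullback.fst fb σ)
    (IsPullback.of_hasPullback fb σ) pt
  have hσ : σ pt = s := by
    show (τ ≫ S.fromSpecResidueField s) pt = s
    rw [Scheme.Hom.comp_apply, Scheme.fromSpecResidueField_apply]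
  rw [hσ] at h
  rw [← h, ← hd]
  have hh := (pullback.snd fb σ).fiberHomeo pt
  refine IsHomeomorph.topologicalKrullDim_eq _ (Homeomorph.isHomeomorph (hh.trans ?_))
  exact (Homeomorph.setCongr (Set.eq_univ_of_forall fun q => Subsingleton.elim _ _)).trans
    (Homeomorph.Set.univ _)

theorem eq_of_spec {A B : Scheme.{u}} (q : A ⟶ B) [IsIntegralHom q] {w v : A} (h : w ⤳ v) (e : q v = q w) :
    v = w := by
  exact Groth.L02.MaxFibreLocus.eq_of_specializes_of_isIntegralHom q h e.symm |>.symm

theorem geometricallyConnected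
    (hgeo : ∀ (Ω : Type u) [Field Ω] [IsAlgClosed Ω] (σ : Spec (CommRingCat.of Ω) ⟶ S),
      IrreducibleSpace ↥(pullback fb σ) ∧ topologicalKrullDim ↥(pullback fb σ) = 1) :
    GeometricallyConnected fb := by
  refine ⟨fun K _ y Z fst snd h => ?_⟩
  let Ω := AlgebraicClosure K
  let τ : Spec (CommRingCat.of Ω) ⟶ Spec (CommRingCat.of K) :=
    Spec.map (CommRingCat.ofHom (algebraMap K Ω))
  haveI : Surjective τ := ⟨fun p => ⟨IsLocalRing.closedPoint Ω, Subsingleton.elim _ _⟩⟩
  haveI := (hgeo Ω (τ ≫ y)).1
  let e : pullback fb (τ ≫ y) ≅ pullback snd τ :=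
    (((IsPullback.of_hasPullback snd τ).paste_horiz h)).isoPullback.symm
  haveI : Surjective (pullback.fst snd τ) :=
    MorphismProperty.pullback_fst (P := @Surjective) _ _ inferInstance
  haveI : IrreducibleSpace ↥Z :=
    Groth.L20.irreducibleSpace_of_surjective (e.hom ≫ pullback.fst snd τ)
  infer_instance

/-- The complement of a finite étale surjective multisection is affine over the base. -/
theorem isAffineHom_compl [IsProper fb] [Smooth fb] [IsClosedImmersion i]
    (hgeo : ∀ (Ω : Type u) [Field Ω] [IsAlgClosed Ω] (σ : Spec (CommRingCat.of Ω) ⟶ S),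
      IrreducibleSpace ↥(pullback fb σ) ∧ topologicalKrullDim ↥(pullback fb σ) = 1)
    [IsFinite (i ≫ fb)] [Etale (i ≫ fb)] (hsurj : Function.Surjective (i ≫ fb).base)
    {X : Scheme.{u}} (j : X ⟶ Xb) [IsOpenImmersion j] (hj : Set.range j.base = (Set.range i.base)ᶜ) :
    IsAffineHom (j ≫ fb) := by
  haveI := geometricallyConnected fb hgeo
  haveI := Groth.Agent.Elliptic.smoothOfRelativeDimension_one_of_fibres fb
    (fun s => (fibres fb hgeo s).2)
  have hIfb : i.ker.subschemeι ≫ fb = inv i.toImage ≫ (i ≫ fb) := by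
    rw [IsIso.eq_inv_comp, ← Category.assoc]
    exact congrArg (· ≫ fb) i.toImage_imageι
  haveI : IsFinite (i.ker.subschemeι ≫ fb) := by rw [hIfb]; infer_instance
  haveI : Flat (i.ker.subschemeι ≫ fb) := by rw [hIfb]; infer_instance
  haveI : LocallyOfFinitePresentation (i.ker.subschemeι ≫ fb) := by rw [hIfb]; infer_instance
  have hI : BlowUp.IsEffCartierIdeal i.ker := Groth.L02.RelCartier.eff_of_lqf_rel fb i.ker
  obtain ⟨N, t, hN, -, hloc⟩ := Groth.L08.Cube.exists_section_of_effCartier i.ker hI
  have hsupp : (i.ker.support : Set Xb) = Set.range i.base := by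
    rw [Scheme.Hom.support_ker, i.isClosedEmbedding.isClosed_range.closure_eq]
  have hgl : (CohB1.genLocus N t : Set Xb) = Set.range j.base := by
    rw [hloc, hsupp, hj]
  have hrel : RelAmple.IsRelAmple fb N := by
    refine (Groth.Agent.S12128.result fb N hN).2 fun s => ?_
    let F := fb.fiber s
    letI : F.Over (Spec (CommRingCat.of (S.residueField s))) := ⟨fb.fiberToSpecResidueField s⟩
    haveI : IsProper (F ↘ Spec (CommRingCat.of (S.residueField s))) :=
      inferInstanceAs (IsProper (pullback.snd fb _))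
    obtain ⟨hirr, hd⟩ := fibres fb hgeo s
    haveI := hirr
    let u := fb.fiberι s
    let e := (Groth.L29.LocFree.pullbackUnitIso u).symm
    have hg := Groth.L18.Ample.genLocus_iso_pullback u hN t e
    have hmem : ∀ z : F, z ∉ CohB1.genLocus _ (e.hom ≫ (Scheme.Modules.pullback u).map t) ↔
        u z ∈ Set.range i.base := fun z => by
      rw [hg]
      show u z ∉ (CohB1.genLocus N t : Set Xb) ↔ _
      rw [hgl, hj]
      exact Set.notMem_compl_iff
    have hfinY : ((i ≫ fb).base ⁻¹' {s}).Finite :=
      Scheme.Hom.finite_preimage_singleton _ s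
    have hclosed : ∀ z : F, u z ∈ Set.range i.base → IsClosed ({z} : Set F) := by
      rintro z ⟨y, hy⟩
      have hys : (i ≫ fb) y = s := by
        show fb (i y) = s
        rw [show i y = u z from hy]
        exact Set.ext_iff.1 (fb.range_fiberι s) (u z) |>.1 ⟨z, rfl⟩
      have hyc : ∀ y' : Y, y ⤳ y' → (i ≫ fb) y' = s → y' = y := fun y' h1 h2 =>
        (eq_of_spec (i ≫ fb) h1 (h2.trans hys.symm))
      refine isClosed_of_closure_subset fun w hw => ?_
      have hspec : u z ⤳ u w := (specializes_iff_mem_closure.2 hw).map u.continuous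
      obtain ⟨y', hy'⟩ : u w ∈ Set.range i.base :=
        hspec.mem_closed i.isClosedEmbedding.isClosed_range ⟨y, hy⟩
      have h1 : y ⤳ y' := i.isClosedEmbedding.isInducing.specializes_iff.1 (by
        rw [hy, hy']; exact hspec)
      have h2 : (i ≫ fb) y' = s := by
        show fb (i y') = s
        rw [show i y' = u w from hy']
        exact Set.ext_iff.1 (fb.range_fiberι s) (u w) |>.1 ⟨w, rfl⟩
      have h3 := hyc y' h1 h2
      exact (fb.fiberι s).isEmbedding.injective (hy'.symm.trans ((congrArg i.base h3).trans hy))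
    refine (Groth.L22.CurveAmple.isAmple_and_isAffineOpen (S.residueField s) hd.le
      (Groth.L18.Ample.isInvertible_pullback u hN) _
      (fun z hz => hclosed z ((hmem z).1 hz)) fun z hz => ?_).1
    obtain ⟨y, hy⟩ := hsurj s
    obtain ⟨w, hw⟩ : i.base y ∈ Set.range u.base := by
      rw [fb.range_fiberι]
      exact hy
    refine ⟨w, ?_, fun h => (hmem w).2 ⟨y, hw.symm⟩ h⟩
    by_cases hgen : z = genericPoint F
    · rw [hgen]
      exact genericPoint_specializes w
    · refine absurd (isClosed_of_closure_subset fun v hv => ?_) hz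
      rcases Groth.L21.RR.Top.spec_of_dim_le_one (X := F.toTopCat) hd.le (genericPoint F) z v
        (genericPoint_specializes z) (specializes_iff_mem_closure.2 hv) with h | h
      · exact absurd h.symm hgen
      · exact h.symm
  refine ⟨fun V hV => ?_⟩
  let W := fb ⁻¹ᵁ V
  have hamp : CohB1.IsAmple ((Scheme.Modules.pullback W.ι).obj N) :=
    (Groth.L18.Ample.isAmple_restrict_iff_pullback W.ι).1 (hrel.2 ⟨V, hV⟩)
  haveI : IsAffine (V : Scheme.{u}) := hV
  let e := (Groth.L29.LocFree.pullbackUnitIso W.ι).symm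
  have haff := Groth.L19.AmpleAffine.isAffineOpen_genLocus (fb ∣_ V) hamp
    (e.hom ≫ (Scheme.Modules.pullback W.ι).map t)
  rw [Groth.L18.Ample.genLocus_iso_pullback W.ι hN t e] at haff
  have h1 := haff.image_of_isOpenImmersion W.ι
  rw [Scheme.Hom.image_preimage_eq_opensRange_inf, Scheme.Opens.opensRange_ι] at h1
  have h2 : W ⊓ CohB1.genLocus N t = j ''ᵁ ((j ≫ fb) ⁻¹ᵁ V) := by
    rw [Scheme.Hom.comp_preimage, Scheme.Hom.image_preimage_eq_opensRange_inf, inf_comm]
    exact congrArg (· ⊓ W) (Opens.ext hgl)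
  rw [h2] at h1
  exact (j.isAffineOpen_iff_of_isOpenImmersion).1 h1

end Groth.L22.ElemFib
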